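import Cfsg.Agent.Chars.Basic.ClassSum
import Cfsg.Agent.Chars.Basic.Linear

/-!
# Ordinary characters: the convolution identity and Frobenius' commutator formula
-/

set_option linter.style.haveILetI false

namespace CfsgLib.Chars

open Cfsg
open scoped ComplexConjugate

universe u

variable {G : Type u} [Group G] [Fintype G]

/-- The convolution of an irreducible character with itself. -/
theorem sum_map_mul_map_inv_mul (χ : IrrCharacter G) (h : G) :
    ∑ b : G, (χ : G → ℂ) b * (χ : G → ℂ) (b⁻¹ * h) =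
      (Nat.card G : ℂ) * (χ : G → ℂ) h / (χ : G → ℂ) 1 := by
  classical
  set F : G → ℂ := fun k => ∑ b : G, (χ : G → ℂ) b * (χ : G → ℂ) (b⁻¹ * k) with hF
  have hcl : ∀ a : G, F (a * h * a⁻¹) = F h := fun a => by
    refine Fintype.sum_equiv (MulAut.conj a⁻¹).toEquiv _ _ fun b => ?_
    simp only [MulEquiv.toEquiv_eq_coe, EquivLike.coe_coe, MulAut.conj_apply]
    congr 1
    · exact (isClassFunction_coe χ b a⁻¹).symm
    · rw [← isClassFunction_coe χ (b⁻¹ * (a * h * a⁻¹)) a⁻¹]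
      congr 1
      group
  have hsum : ∑ a : G, F (a * h * a⁻¹) =
      (Nat.card G : ℂ) * (χ : G → ℂ) h / (χ : G → ℂ) 1 * Nat.card G := by
    simp only [hF]
    rw [Finset.sum_comm]
    simp only [← Finset.mul_sum, sum_map_mul_conjugate]
    have horth := sum_mul_map_inv χ χ
    rw [if_pos rfl] at horth
    calc ∑ b : G, (χ : G → ℂ) b * ((Nat.card G : ℂ) * ((χ : G → ℂ) b⁻¹ * (χ : G → ℂ) h) /
          (χ : G → ℂ) 1)
        = ((Nat.card G : ℂ) * (χ : G → ℂ) h / (χ : G → ℂ) 1) *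
            ∑ b : G, (χ : G → ℂ) b * (χ : G → ℂ) b⁻¹ := by
          rw [Finset.mul_sum]; exact Finset.sum_congr rfl fun b _ => by ring
      _ = _ := by rw [horth]
  simp only [hcl, Finset.sum_const, Finset.card_univ, nsmul_eq_mul,
    ← Nat.card_eq_fintype_card] at hsum
  rw [mul_comm] at hsum
  exact mul_right_cancel₀ natCard_ne_zero hsum

/-- The sum over commutators, translated. -/
theorem sum_map_commutator_mul (χ : IrrCharacter G) (h : G) :
    ∑ a : G, ∑ b : G, (χ : G → ℂ) (a * b * a⁻¹ * b⁻¹ * h) =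
      (Nat.card G : ℂ) ^ 2 * (χ : G → ℂ) h / (χ : G → ℂ) 1 ^ 2 := by
  rw [Finset.sum_comm]
  have e : ∀ b : G, ∑ a : G, (χ : G → ℂ) (a * b * a⁻¹ * b⁻¹ * h) =
      (Nat.card G : ℂ) / (χ : G → ℂ) 1 * ((χ : G → ℂ) b * (χ : G → ℂ) (b⁻¹ * h)) := fun b => by
    have := sum_map_mul_conjugate χ (b⁻¹ * h) b
    rw [Finset.sum_congr rfl (g := fun a => (χ : G → ℂ) (b⁻¹ * h * (a * b * a⁻¹)))
      (fun a _ => ?_), this]
    · ring
    · rw [classFunction_mul_comm (isClassFunction_coe χ) (b⁻¹ * h)]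
      congr 1
      group
  simp only [e, ← Finset.mul_sum, sum_map_mul_map_inv_mul]
  field_simp

end CfsgLib.Chars
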